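import Groth.Agent.EtRpushStalkLib.Iso
import Groth.Agent.CovDevLib.Base
import Groth.Agent.EtShLib.StrictLocal

/-!
# The unit of `h^* ⊣ h_*` at a strictly local point

For a cartesian square over a strict localisation `g : Spec R → X'` of `X'`, the stalk of `A → h_* h^* A` at the
closed point is bijective as soon as restriction to the fibre product is bijective on global sections.
-/

set_option autoImplicit false
set_option linter.all false
set_option backward.isDefEq.respectTransparency false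
set_option backward.isDefEq.respectTransparency.types false
set_option synthInstance.maxHeartbeats 400000
set_option maxHeartbeats 1000000

universe u

open CategoryTheory CategoryTheory.Limits CategoryTheory.Abelian AlgebraicGeometry Opposite
open Groth.Agent Groth.Agent.EtShLib DescSecLib EtRpushStalkLib

noncomputable section

namespace LocAcycStalkLib

attribute [local instance] EtSliceLib.pullExact

/-- Units compose. -/
theorem c_app_unit {A B C : Scheme.{u}} (f : A ⟶ B) (g : B ⟶ C) (h : A ⟶ C) (w : f ≫ g = h) (G : EtCoh.Ab C)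
    (U : C.Etale) (x : ToType (G.obj.obj (op U))) :
    ((etSys.c f g h w).app G).hom.app (op ((EtCoh.bc f).obj ((EtCoh.bc g).obj U)))
        (((EtCoh.pullPushAdj f).unit.app ((EtCoh.pull g).obj G)).hom.app (op ((EtCoh.bc g).obj U))
          (((EtCoh.pullPushAdj g).unit.app G).hom.app (op U) x)) =
      ((EtCoh.pull h).obj G).obj.map (bcCompHom f g h w U).op
        (((EtCoh.pullPushAdj h).unit.app G).hom.app (op U) x) := by
  have e : (EtCoh.pullPushAdj g).homEquiv _ _ ((EtCoh.pullPushAdj f).homEquiv _ _ ((etSys.c f g h w).app G)) =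
      (EtCoh.pullPushAdj h).unit.app G ≫ (etPc f g h w).app _ := etSys.homEquiv_c f g h w G
  rw [Adjunction.homEquiv_unit, Adjunction.homEquiv_unit] at e
  exact congrArg (fun z : G ⟶ _ => z.hom.app (op U) x) e

theorem toFib_bcCompHom {A B C : Scheme.{u}} (f : A ⟶ B) (g : B ⟶ C) (h : A ⟶ C) (w : f ≫ g = h) (U : C.Etale)
    (a : A ⟶ ((EtCoh.bc g).obj U).left) (ha : a ≫ ((EtCoh.bc g).obj U).hom = f)
    (a' : A ⟶ U.left) (ha' : a' ≫ U.hom = h) (e : a ≫ pullback.fst U.hom g = a') :
    toFib ((EtCoh.bc g).obj U) a f ha ≫ bcCompHom f g h w U = toFib U a' h ha' := by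
  refine bc_hom_ext h _ _ ?_
  show ((toFib ((EtCoh.bc g).obj U) a f ha).left ≫ (bcCompHom f g h w U).left) ≫ pullback.fst U.hom h = _
  rw [Category.assoc, bcCompHom_fst, toFib_fst]
  exact (Category.assoc _ _ _).symm.trans ((congrArg (· ≫ pullback.fst U.hom g)
    (toFib_fst ((EtCoh.bc g).obj U) a f ha)).trans e)

/-- Restriction of a section along a composite. -/
theorem c_res {A B C : Scheme.{u}} (f : A ⟶ B) (g : B ⟶ C) (h : A ⟶ C) (w : f ≫ g = h) (G : EtCoh.Ab C)
    (U : C.Etale) (x : ToType (G.obj.obj (op U)))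
    (a : A ⟶ ((EtCoh.bc g).obj U).left) (ha : a ≫ ((EtCoh.bc g).obj U).hom = f)
    (a' : A ⟶ U.left) (ha' : a' ≫ U.hom = h) (e : a ≫ pullback.fst U.hom g = a') :
    ((etSys.c f g h w).app G).hom.app (op (EtCoh.top A))
        (((EtCoh.pull f).obj ((EtCoh.pull g).obj G)).obj.map (toFib ((EtCoh.bc g).obj U) a f ha).op
          (((EtCoh.pullPushAdj f).unit.app ((EtCoh.pull g).obj G)).hom.app (op ((EtCoh.bc g).obj U))
            (((EtCoh.pullPushAdj g).unit.app G).hom.app (op U) x))) =
      ((EtCoh.pull h).obj G).obj.map (toFib U a' h ha').op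
        (((EtCoh.pullPushAdj h).unit.app G).hom.app (op U) x) := by
  rw [← toFib_bcCompHom f g h w U a ha a' ha' e, op_comp, Functor.map_comp, ConcreteCategory.comp_apply,
    ← c_app_unit f g h w G U x]
  exact NatTrans.naturality_apply ((etSys.c f g h w).app G).hom _ _

theorem sec_Hpull {A B : Scheme.{u}} (f : A ⟶ B) [PreservesFiniteLimits (EtCoh.pull f)] (G : EtCoh.Ab B)
    (e : EtCoh.H B G 0) :
    EtContLib.sec (EtCore.Hpull f G 0 e) = ((EtCoh.pull f).obj G).obj.map (EtCore.bcTopIso f).inv.op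
      (((EtCoh.pullPushAdj f).unit.app G).hom.app (op (EtCoh.top B)) (EtContLib.sec e)) := by
  refine Eq.trans ?_ (EtContLib.sec_HpullThen f ((EtCoh.pullPushAdj f).unit.app G) e)
  refine congrArg EtContLib.sec ?_
  have h1 : EtContLib.adjL f ((EtCoh.pullPushAdj f).unit.app G) = 𝟙 _ := by
    show ((EtCoh.pullPushAdj f).homEquiv _ _).symm _ = _
    exact (Equiv.symm_apply_eq _).2 ((EtCoh.pullPushAdj f).homEquiv_id G).symm
  show _ = (EtCoh.HF A 0).map _ (EtCore.Hpull f G 0 e)
  rw [h1]
  exact (ConcreteCategory.congr_hom ((EtCoh.HF A 0).map_id ((EtCoh.pull f).obj G)) (EtCore.Hpull f G 0 e)).symm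

variable {Xt X' : Scheme.{u}} (h : Xt ⟶ X') [QuasiCompact h] [QuasiSeparated h] {R : Type u} [CommRing R]
  [HenselianLocalRing R] [IsSepClosed (IsLocalRing.ResidueField R)] {g : Spec (CommRingCat.of R) ⟶ X'}
  {Xb : Scheme.{u}} {b : Xb ⟶ Xt} {π : Xb ⟶ Spec (CommRingCat.of R)} (sq : IsPullback b π h g) (C : Chart g)
  (A : EtCoh.Ab X')

/-- The section of `g^* A` defined by a germ. -/
def secOf (V : X'.Etale) (v : Fib (closedPt R ≫ g) V) (t : ToType (A.obj.obj (op V))) :
    ToType ((EtCore.gsec (Spec (CommRingCat.of R))).obj ((EtCoh.pull g).obj A)) :=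
  ((EtCoh.pull g).obj A).obj.map (toFib V (sigma g V v) g (sigma_w g V v)).op
    (((EtCoh.pullPushAdj g).unit.app A).hom.app (op V) t)

theorem germ_secOf (V : X'.Etale) (v : Fib (closedPt R ≫ g) V) (t : ToType (A.obj.obj (op V))) :
    germ (A := AddCommGrpCat.{u + 1}) (closedPt R) ((EtCoh.pull g).obj A) (EtCoh.top _) (topPt R)
        (secOf A V v t) =
      (stalkPull g (closedPt R) AddCommGrpCat.{u + 1}).hom.app A (germ (closedPt R ≫ g) A V v t) := by
  refine (germ_res_apply _ _ _ _ _).trans ?_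
  have e : (topPt R).map (toFib V (sigma g V v) g (sigma_w g V v)) = v.lift g (closedPt R) := by
    apply Fib.ext
    rw [Fib.map_hom]
    apply pullback.hom_ext
    · refine (Category.assoc _ _ _).trans ((congrArg (closedPt R ≫ ·) (toFib_fst V _ g _)).trans ?_)
      exact (closedPt_sigma g V v).trans (pullback.lift_fst _ _ _).symm
    · refine (Category.assoc _ _ _).trans ((congrArg (closedPt R ≫ ·)
        (MorphismProperty.Over.w (toFib V (sigma g V v) g (sigma_w g V v)))).trans ?_)
      exact (Category.comp_id _).trans (pullback.lift_snd _ _ _).symm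
  rw [e]
  exact (ConcreteCategory.congr_hom (germ_stalkPull g (closedPt R) AddCommGrpCat.{u + 1} A V v) t).symm

/-- Stalk of `A → h_* h^* A`, followed by the isomorphism with sections on the fibre product. -/
def psi : (stk (A := AddCommGrpCat.{u + 1}) (closedPt R ≫ g)).obj A ⟶
    (EtCore.gsec Xb).obj ((EtCoh.pull (b ≫ h)).obj A) :=
  (stk (A := AddCommGrpCat.{u + 1}) (closedPt R ≫ g)).map ((EtCoh.pullPushAdj h).unit.app A) ≫
    alphaApp h g sq.w ((EtCoh.pull h).obj A) ≫ (EtCore.gsec Xb).map ((etSys.c b h (b ≫ h) rfl).app A)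

theorem psi_germ (V : X'.Etale) (v : Fib (closedPt R ≫ g) V) (t : ToType (A.obj.obj (op V))) :
    psi h sq A (germ (closedPt R ≫ g) A V v t) =
      (EtCore.gsec Xb).map ((etSys.c π g (b ≫ h) sq.w.symm).app A)
        (((EtCoh.pull π).obj ((EtCoh.pull g).obj A)).obj.map (EtCore.bcTopIso π).inv.op
          (((EtCoh.pullPushAdj π).unit.app ((EtCoh.pull g).obj A)).hom.app (op (EtCoh.top _))
            (secOf A V v t))) := by
  have hv : (π ≫ sigma g V v) ≫ V.hom = b ≫ h := by rw [Category.assoc, sigma_w, sq.w]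
  have hp : (π ≫ (toFib V (sigma g V v) g (sigma_w g V v)).left) ≫ ((EtCoh.bc g).obj V).hom = π :=
    (Category.assoc _ _ _).trans ((congrArg (π ≫ ·)
      (MorphismProperty.Over.w (toFib V (sigma g V v) g (sigma_w g V v)))).trans (Category.comp_id π))
  unfold psi
  rw [ConcreteCategory.comp_apply, ConcreteCategory.comp_apply, germ_natural_apply]
  refine (congrArg (fun z => (EtCore.gsec Xb).map ((etSys.c b h (b ≫ h) rfl).app A) z)
    ((ConcreteCategory.comp_apply _ _ _).symm.trans
      (ConcreteCategory.congr_hom (germ_alphaApp h g sq.w ((EtCoh.pull h).obj A) V v) _))).trans ?_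
  refine (c_res b h (b ≫ h) rfl A V t (sigma' h g sq.w V v) (sigma'_w h g sq.w V v) (π ≫ sigma g V v) hv
    (pullback.lift_fst _ _ _)).trans ?_
  refine (c_res π g (b ≫ h) sq.w.symm A V t (π ≫ (toFib V (sigma g V v) g (sigma_w g V v)).left) hp
    (π ≫ sigma g V v) hv ((Category.assoc _ _ _).trans (congrArg (π ≫ ·) (toFib_fst V _ g _)))).symm.trans ?_
  refine congrArg ((EtCore.gsec Xb).map ((etSys.c π g (b ≫ h) sq.w.symm).app A)) ?_
  have e : (EtCore.bcTopIso π).inv ≫ (EtCoh.bc π).map (toFib V (sigma g V v) g (sigma_w g V v)) =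
      toFib ((EtCoh.bc g).obj V) (π ≫ (toFib V (sigma g V v) g (sigma_w g V v)).left) π hp := by
    refine bc_hom_ext π _ _ ?_
    show ((EtCore.bcTopIso π).inv.left ≫ ((EtCoh.bc π).map _).left) ≫ _ = _
    rw [Category.assoc, DescSecLib.bc_map_fst, toFib_fst]
    refine (Category.assoc _ _ _).symm.trans (congrArg (· ≫ _) ?_)
    have h1 : (EtCore.bcTopIso π).inv.left ≫ pullback.snd (EtCoh.top _).hom π = 𝟙 Xb :=
      MorphismProperty.Over.w (EtCore.bcTopIso π).inv
    refine (congrArg ((EtCore.bcTopIso π).inv.left ≫ ·)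
      ((Category.comp_id _).symm.trans pullback.condition)).trans ?_
    exact (Category.assoc _ _ _).symm.trans ((congrArg (· ≫ π) h1).trans (Category.id_comp π))
  rw [← e, op_comp, Functor.map_comp, ConcreteCategory.comp_apply]
  refine congrArg (((EtCoh.pull π).obj ((EtCoh.pull g).obj A)).obj.map (EtCore.bcTopIso π).inv.op) ?_
  exact (NatTrans.naturality_apply ((EtCoh.pullPushAdj π).unit.app ((EtCoh.pull g).obj A)).hom
    (toFib V (sigma g V v) g (sigma_w g V v)).op (((EtCoh.pullPushAdj g).unit.app A).hom.app (op V) t)).symm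

include sq C in
/-- The unit is bijective on the stalk at a strictly local point. -/
theorem isIso_unit_stk [PreservesFiniteLimits (EtCoh.pull π)]
    (hb : Function.Bijective (EtCore.Hpull π ((EtCoh.pull g).obj A) 0)) :
    IsIso ((stk (A := AddCommGrpCat.{u + 1}) (closedPt R ≫ g)).map ((EtCoh.pullPushAdj h).unit.app A)) := by
  let c₂ := (EtCore.gsec Xb).map ((etSys.c π g (b ≫ h) sq.w.symm).app A)
  have hc₂ : Function.Bijective c₂ := ConcreteCategory.bijective_of_isIso c₂
  let φ := (stalkPull g (closedPt R) AddCommGrpCat.{u + 1}).hom.app A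
  have hφ : Function.Bijective φ := ConcreteCategory.bijective_of_isIso φ
  have hg := bijective_germ_top R ((EtCoh.pull g).obj A)
  have hψ : Function.Bijective (psi h sq A) := by
    refine ⟨(injective_iff_map_eq_zero (psi h sq A).hom).2 fun z hz => ?_, fun y => ?_⟩
    · obtain ⟨V, v, t, rfl⟩ := exists_germ (closedPt R ≫ g) z
      obtain ⟨e, he⟩ := EtContLib.sec_surjective (secOf A V v t)
      have h1 : ((EtCoh.pull π).obj ((EtCoh.pull g).obj A)).obj.map (EtCore.bcTopIso π).inv.op
          (((EtCoh.pullPushAdj π).unit.app ((EtCoh.pull g).obj A)).hom.app (op (EtCoh.top _))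
            (secOf A V v t)) = 0 := hc₂.1 (((psi_germ h sq A V v t).symm.trans hz).trans (map_zero _).symm)
      rw [← he, ← sec_Hpull] at h1
      have h2 : e = 0 := hb.1 ((EtContLib.sec_eq_zero h1).trans (map_zero _).symm)
      have h3 : secOf A V v t = 0 := he.symm.trans ((congrArg EtContLib.sec h2).trans EtContLib.sec_zero)
      exact hφ.1 ((germ_secOf A V v t).symm.trans
        ((congrArg _ h3).trans ((map_zero _).trans (map_zero _).symm)))
    · obtain ⟨y', rfl⟩ := hc₂.2 y
      obtain ⟨e', rfl⟩ := EtContLib.sec_surjective y'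
      obtain ⟨e, rfl⟩ := hb.2 e'
      obtain ⟨z, hz⟩ := hφ.2 (germ (A := AddCommGrpCat.{u + 1}) (closedPt R) ((EtCoh.pull g).obj A)
        (EtCoh.top _) (topPt R) (EtContLib.sec e))
      obtain ⟨V, v, t, rfl⟩ := exists_germ (closedPt R ≫ g) z
      refine ⟨germ (closedPt R ≫ g) A V v t, (psi_germ h sq A V v t).trans ?_⟩
      rw [show secOf A V v t = EtContLib.sec e from hg.1 ((germ_secOf A V v t).trans hz), ← sec_Hpull]
  haveI : IsIso (alphaApp h g sq.w ((EtCoh.pull h).obj A)) :=
    haveI := isIso_alpha h sq C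
    inferInstanceAs (IsIso ((alpha h g sq.w).app ((EtCoh.pull h).obj A)))
  haveI : IsIso (psi h sq A) := (ConcreteCategory.isIso_iff_bijective _).2 hψ
  haveI : IsIso ((stk (A := AddCommGrpCat.{u + 1}) (closedPt R ≫ g)).map ((EtCoh.pullPushAdj h).unit.app A) ≫
      alphaApp h g sq.w ((EtCoh.pull h).obj A) ≫ (EtCore.gsec Xb).map ((etSys.c b h (b ≫ h) rfl).app A)) :=
    ‹IsIso (psi h sq A)›
  exact IsIso.of_isIso_comp_right ((stk (A := AddCommGrpCat.{u + 1}) (closedPt R ≫ g)).map
      ((EtCoh.pullPushAdj h).unit.app A))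
    (alphaApp h g sq.w ((EtCoh.pull h).obj A) ≫ (EtCore.gsec Xb).map ((etSys.c b h (b ≫ h) rfl).app A))

end LocAcycStalkLib
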