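import Groth.Agent.LocAcycStalkLib.Unit
import Groth.Agent.CovDevLib.Basis
import Groth.Agent.WEtSHLib.Local
import Groth.Agent.EtShLib.SamePoint
import Groth.Agent.S0754
import Groth.Agent.S1412
import Groth.Agent.S0537
import Groth.Prelude.Def_SGA4h
import Mathlib.AlgebraicGeometry.Morphisms.WeaklyEtale

/-!
# Local acyclicity at the strictly local points of a base change to a strict localisation
-/

set_option autoImplicit false
set_option linter.all false
set_option backward.isDefEq.respectTransparency false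
set_option backward.isDefEq.respectTransparency.types false
set_option synthInstance.maxHeartbeats 400000
set_option maxHeartbeats 1000000

universe u

open CategoryTheory CategoryTheory.Limits CategoryTheory.Abelian AlgebraicGeometry Opposite
open Groth.Agent Groth.Agent.EtShLib DescSecLib EtRpushStalkLib
open scoped TensorProduct

noncomputable section

namespace LocAcycStalkLib

attribute [local instance] EtSliceLib.pullExact

theorem specOf_closedPoint {X : Scheme.{u}} (x : X) (R : Type u) [CommRing R] [IsLocalRing R]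
    [Algebra (X.presheaf.stalk x) R] [IsLocalHom (algebraMap (X.presheaf.stalk x) R)] :
    (Hens2.specOf X x R).base (IsLocalRing.closedPoint R) = x := by
  refine (Scheme.Hom.comp_apply _ _ _).trans ?_
  rw [show (Spec.map (CommRingCat.ofHom (algebraMap (X.presheaf.stalk x) R))).base (IsLocalRing.closedPoint R) =
      IsLocalRing.closedPoint (X.presheaf.stalk x) from
    (IsLocalRing.isLocalHom_iff_comap_closedPoint _).1 inferInstance]
  exact Scheme.fromSpecStalk_closedPoint

theorem weaklyEtale_stalkMap {X Y : Scheme.{u}} (f : X ⟶ Y) [WeaklyEtale f] (x : X) :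
    letI := (f.stalkMap x).hom.toAlgebra
    Algebra.WeaklyEtale (Y.presheaf.stalk (f.base x)) (X.presheaf.stalk x) := by
  obtain ⟨h1, h2⟩ := (Groth.Agent.S1412.result f).1 inferInstance x
  letI := (f.stalkMap x).hom.toAlgebra
  exact ⟨h1, h2⟩

/-- The strict henselization upstairs is one downstairs along a weakly étale morphism. -/
theorem exists_strictLocal {X X' : Scheme.{u}} (p : X' ⟶ X) [WeaklyEtale p] (x' : X') :
    ∃ (RX : Type u) (_ : CommRing RX) (_ : IsLocalRing RX) (_ : Algebra (X'.presheaf.stalk x') RX)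
      (_ : IsLocalHom (algebraMap (X'.presheaf.stalk x') RX)) (_ : Algebra (X.presheaf.stalk (p.base x')) RX)
      (_ : IsLocalHom (algebraMap (X.presheaf.stalk (p.base x')) RX)),
      Hensel.IsStrictHenselization (X'.presheaf.stalk x') RX ∧
      Hensel.IsStrictHenselization (X.presheaf.stalk (p.base x')) RX ∧
      Hens2.specOf X' x' RX ≫ p = Hens2.specOf X (p.base x') RX := by
  letI := (p.stalkMap x').hom.toAlgebra
  haveI := weaklyEtale_stalkMap p x'
  let RX := HenselLib.SH (X'.presheaf.stalk x')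
  letI aX : Algebra (X.presheaf.stalk (p.base x')) RX :=
    ((algebraMap (X'.presheaf.stalk x') RX).comp (p.stalkMap x').hom).toAlgebra
  haveI : IsScalarTower (X.presheaf.stalk (p.base x')) (X'.presheaf.stalk x') RX := IsScalarTower.of_algebraMap_eq' rfl
  haveI hl : IsLocalHom (algebraMap (X.presheaf.stalk (p.base x')) RX) :=
    RingHom.isLocalHom_comp (algebraMap (X'.presheaf.stalk x') RX) (p.stalkMap x').hom
  refine ⟨RX, inferInstance, inferInstance, inferInstance, inferInstance, aX, hl, inferInstance,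
    WEtSHLib.isStrictHenselization_of_weaklyEtale _ (X'.presheaf.stalk x') RX, ?_⟩
  show (Spec.map _ ≫ X'.fromSpecStalk x') ≫ p =
    Spec.map (p.stalkMap x' ≫ CommRingCat.ofHom (algebraMap (X'.presheaf.stalk x') RX)) ≫ _
  rw [Spec.map_comp, Category.assoc, Category.assoc, Scheme.SpecMap_stalkMap_fromSpecStalk]

/-- Local acyclicity, at a point of a given image. -/
theorem bijective_of_isLARel {X S : Scheme.{u}} (f : X ⟶ S) (F : EtCoh.Ab X) (hla : SGA4h.IsLARel f F)
    (x : X) (s : S) (hs : f.base x = s) (RS : Type u) [CommRing RS] [IsLocalRing RS]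
    [Algebra (S.presheaf.stalk s) RS] [IsLocalHom (algebraMap (S.presheaf.stalk s) RS)]
    [Hensel.IsStrictHenselization (S.presheaf.stalk s) RS] (RX : Type u) [CommRing RX] [IsLocalRing RX]
    [Algebra (X.presheaf.stalk x) RX] [IsLocalHom (algebraMap (X.presheaf.stalk x) RX)]
    [Hensel.IsStrictHenselization (X.presheaf.stalk x) RX] [Algebra RS RX] [IsLocalHom (algebraMap RS RX)]
    (hc : Spec.map (CommRingCat.ofHom (algebraMap RS RX)) ≫ Hens2.specOf S s RS = Hens2.specOf X x RX ≫ f)
    (Ω : Type u) [Field Ω] [IsSepClosed Ω] [Algebra RS Ω] (q : ℕ) :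
    Function.Bijective (EtCore.Hpull (Spec.map (CommRingCat.ofHom (algebraMap RX (RX ⊗[RS] Ω))))
      ((EtCoh.pull (Hens2.specOf X x RX)).obj F) q) := by
  subst hs
  refine hla x RS RX ?_ Ω q
  have h : Spec.map (CommRingCat.ofHom ((algebraMap RS RX).comp (algebraMap (S.presheaf.stalk (f.base x)) RS))) =
      Spec.map (CommRingCat.ofHom ((algebraMap (X.presheaf.stalk x) RX).comp (f.stalkMap x).hom)) := by
    rw [← cancel_mono (S.fromSpecStalk (f.base x)), CommRingCat.ofHom_comp, CommRingCat.ofHom_comp,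
      CommRingCat.ofHom_hom, Spec.map_comp, Spec.map_comp, Category.assoc, Category.assoc,
      Scheme.SpecMap_stalkMap_fromSpecStalk]
    exact hc.trans (Category.assoc _ _ _)
  exact congrArg CommRingCat.Hom.hom (Spec.map_injective h)

section Stalks

variable {X S : Scheme.{u}} (f : X ⟶ S) (F : EtCoh.Ab X) (hla : SGA4h.IsLARel f F) (s : S) (RS : Type u)
  [CommRing RS] [IsLocalRing RS] [Algebra (S.presheaf.stalk s) RS] [IsLocalHom (algebraMap (S.presheaf.stalk s) RS)]
  [Hensel.IsStrictHenselization (S.presheaf.stalk s) RS]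
  {X' : Scheme.{u}} (f' : X' ⟶ Spec (CommRingCat.of RS)) (p : X' ⟶ X) (cX : IsPullback p f' f (Hens2.specOf S s RS))
  (Ω : Type u) [Field Ω] [IsAlgClosed Ω] (τ : RS →+* Ω) {Xt : Scheme.{u}} (h : Xt ⟶ X')
  (ft : Xt ⟶ Spec (CommRingCat.of Ω)) (ct : IsPullback h ft f' (Spec.map (CommRingCat.ofHom τ)))

include hla cX ct in
/-- The stalks of the unit and of the higher direct images at a point over the closed point. -/
theorem stalks_of_closed {K : Type u} [Field K] [IsSepClosed K] (ξ : Spec (CommRingCat.of K) ⟶ X')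
    (hξ : f'.base (ξ.base default) = IsLocalRing.closedPoint RS) :
    IsIso ((stk (A := AddCommGrpCat.{u + 1}) ξ).map ((EtCoh.pullPushAdj h).unit.app ((EtCoh.pull p).obj F))) ∧
      ∀ q : ℕ, 0 < q → IsZero ((stk (A := AddCommGrpCat.{u + 1}) ξ).obj
        ((EtCoh.Rpush h q).obj ((EtCoh.pull h).obj ((EtCoh.pull p).obj F)))) := by
  haveI : WeaklyEtale (Hens2.specOf S s RS) := Groth.Agent.S0754.result S s RS
  haveI : WeaklyEtale p := MorphismProperty.of_isPullback cX.flip ‹_›
  haveI : IsAffineHom h := MorphismProperty.of_isPullback ct.flip inferInstance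
  let x' : X' := ξ.base default
  obtain ⟨RX, _, _, _, _, _, _, hX', hX, hgp⟩ := exists_strictLocal p x'
  haveI := hX'
  haveI := hX
  haveI : HenselianLocalRing RX := hX'.henselian
  haveI : IsSepClosed (IsLocalRing.ResidueField RX) := hX'.isSepClosure.sep_closed
  let g := Hens2.specOf X' x' RX
  have hs : f.base (p.base x') = s := by
    rw [← Scheme.Hom.comp_apply, cX.w, Scheme.Hom.comp_apply]
    exact (congrArg (Hens2.specOf S s RS).base hξ).trans (specOf_closedPoint s RS)
  letI : Algebra RS RX := (Spec.preimage (g ≫ f')).hom.toAlgebra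
  have hφ : Spec.map (CommRingCat.ofHom (algebraMap RS RX)) = g ≫ f' := Spec.map_preimage _
  haveI : IsLocalHom (algebraMap RS RX) := (IsLocalRing.isLocalHom_iff_comap_closedPoint _).2 (by
    show (Spec.map (CommRingCat.ofHom (algebraMap RS RX))).base (IsLocalRing.closedPoint RX) = _
    rw [hφ, Scheme.Hom.comp_apply]
    exact (congrArg f'.base (specOf_closedPoint x' RX)).trans hξ)
  letI : Algebra RS Ω := τ.toAlgebra
  have hb := fun q => bijective_of_isLARel f F hla (p.base x') s hs RS RX
    (by rw [hφ, ← hgp]; simp only [g, Category.assoc, ← cX.w]) Ω q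
  let π : Spec (CommRingCat.of (RX ⊗[RS] Ω)) ⟶ Spec (CommRingCat.of RX) :=
    Spec.map (CommRingCat.ofHom (algebraMap RX (RX ⊗[RS] Ω)))
  let πΩ : Spec (CommRingCat.of (RX ⊗[RS] Ω)) ⟶ Spec (CommRingCat.of Ω) :=
    Spec.map (CommRingCat.ofHom Algebra.TensorProduct.includeRight.toRingHom)
  have sqb : IsPullback π πΩ (g ≫ f') (Spec.map (CommRingCat.ofHom τ)) :=
    hφ ▸ isPullback_SpecMap_of_isPushout _ _ _ _ (CommRingCat.isPushout_tensorProduct RS RX Ω)
  let b := ct.lift (π ≫ g) πΩ ((Category.assoc _ _ _).trans sqb.w)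
  have sq : IsPullback b π h g :=
    IsPullback.of_right (((ct.lift_snd (π ≫ g) πΩ ((Category.assoc _ _ _).trans sqb.w)).symm ▸ sqb.flip))
      (ct.lift_fst _ _ _) ct.flip
  obtain ⟨C⟩ := EtRpushStalkLib.exists_chart x' RX
  let e₀ : (EtCoh.pull (Hens2.specOf X (p.base x') RX)).obj F ≅ (EtCoh.pull g).obj ((EtCoh.pull p).obj F) :=
    (asIso ((etSys.c g p (Hens2.specOf X (p.base x') RX) hgp).app F)).symm
  obtain ⟨e⟩ := nonempty_stk_iso_of_eq (A := AddCommGrpCat.{u + 1}) (ξ := closedPt RX ≫ g) (ξ' := ξ) (by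
    show x' = _
    rw [Scheme.Hom.comp_apply]
    refine ((congrArg g.base ?_).trans (specOf_closedPoint x' RX)).symm
    exact SubmDescLib.closedPoint_map (IsLocalRing.residue RX) IsLocalRing.residue_surjective _)
  refine ⟨?_, fun q hq => ?_⟩
  · haveI := isIso_unit_stk h sq C ((EtCoh.pull p).obj F) (CovDevLib.bijective_Hpull_of_iso_obj π e₀ 0 (hb 0))
    rw [← NatIso.naturality_1 e ((EtCoh.pullPushAdj h).unit.app ((EtCoh.pull p).obj F))]
    infer_instance
  · haveI := EtShLib.subsingleton_H RX ((EtCoh.pull g).obj ((EtCoh.pull p).obj F)) q hq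
    haveI : Subsingleton (EtCoh.H _ ((EtCoh.pull π).obj ((EtCoh.pull g).obj ((EtCoh.pull p).obj F))) q) :=
      (CovDevLib.bijective_Hpull_of_iso_obj π e₀ q (hb q)).2.subsingleton
    obtain ⟨e'⟩ := EtRpushStalkLib.nonempty_iso h sq C q
    let E : (EtCoh.pull b).obj ((EtCoh.pull h).obj ((EtCoh.pull p).obj F)) ≅
        (EtCoh.pull π).obj ((EtCoh.pull g).obj ((EtCoh.pull p).obj F)) :=
      asIso ((etSys.c b h (b ≫ h) rfl).app _) ≪≫ (asIso ((etSys.c π g (b ≫ h) sq.w.symm).app _)).symm
    refine IsZero.of_iso ?_ (e.symm.app _ ≪≫ e'.app _ ≪≫ (extFunctorObj _ q).mapIso E)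
    exact AddCommGrpCat.isZero_of_subsingleton (AddCommGrpCat.of
      (EtCoh.H _ ((EtCoh.pull π).obj ((EtCoh.pull g).obj ((EtCoh.pull p).obj F))) q))

end Stalks

end LocAcycStalkLib
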